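import Groth.Agent.Lib.Ideal.EffCartier
import Groth.Prelude.Def_CurvBase
import Mathlib.RingTheory.Ideal.AssociatedPrime.Basic
import Mathlib.RingTheory.Ideal.MinimalPrime.Basic

/-!
# (Weakly) associated points

Mathlib's `IsAssociatedPrime` uses the radical of the annihilator, so `Curv2.IsAssPoint` and
`Curv2.IsWeakAssPoint` are both the notion of a weakly associated point; on a locally Noetherian
scheme this is the classical notion of an associated point.
-/

universe u

open CategoryTheory AlgebraicGeometry TopologicalSpace Opposite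

namespace Groth.Agent.Lib.AssPt.Basic

open Groth.Agent.Lib.Ideal.EffCartier

/-- The maximal ideal is associated to `R` (in the radical sense). -/
def MaxAssoc (R : Type*) [CommRing R] [IsLocalRing R] : Prop :=
  IsAssociatedPrime (IsLocalRing.maximalIdeal R) R

variable {X : Scheme.{u}}

theorem colon_bot_singleton {R M : Type*} [CommRing R] [AddCommGroup M] [Module R M] (m : M) :
    (⊥ : Submodule R M).colon {m} = LinearMap.ker (LinearMap.toSpanSingleton R M m) := by
  ext r
  simp [Submodule.mem_colon_singleton]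

theorem isWeakAssPoint_iff_isAssPoint (F : X.Modules) (x : X) :
    Curv2.IsWeakAssPoint F x ↔ Curv2.IsAssPoint F x := by
  constructor
  · rintro ⟨m, hm⟩
    exact ⟨inferInstance, m, by rw [colon_bot_singleton]; exact hm.symm⟩
  · rintro ⟨-, m, hm⟩
    exact ⟨m, by rw [← colon_bot_singleton]; exact hm.symm⟩

/-- The stalk of `O_X`, as a module, is the local ring. -/
theorem unitStalk_germ_smul_one {U : X.Opens} (x : X) (hx : x ∈ U) (r : Γ(X, U)) :
    (X.presheaf.germ U x hx r) •
      (Coh.structureModule X).presheaf.germ U x hx (1 : Γ(X, U)) =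
      (Coh.structureModule X).presheaf.germ U x hx r := by
  have h := PresheafOfModules.germ_smul (R := X.presheaf)
    (show PresheafOfModules (X.presheaf ⋙ forget₂ CommRingCat RingCat) from
      (Coh.structureModule X).val) x U hx r (1 : Γ(X, U))
  refine h.symm.trans ?_
  exact congrArg _ (mul_one r)

noncomputable def unitStalkEquiv (x : X) :
    X.presheaf.stalk x ≃ₗ[X.presheaf.stalk x] (Coh.structureModule X).presheaf.stalk x := by
  let one : (Coh.structureModule X).presheaf.stalk x :=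
    (Coh.structureModule X).presheaf.germ ⊤ x trivial (1 : Γ(X, ⊤))
  have hone : ∀ (U : X.Opens) (hx : x ∈ U),
      (Coh.structureModule X).presheaf.germ U x hx (1 : Γ(X, U)) = one := by
    intro U hx
    refine Eq.trans (congrArg _ ?_) (TopCat.Presheaf.germ_res_apply
      (Coh.structureModule X).presheaf (homOfLE (le_top : U ≤ ⊤)) x hx (1 : Γ(X, ⊤)))
    exact (map_one (X.presheaf.map (homOfLE (le_top : U ≤ ⊤)).op).hom).symm
  refine LinearEquiv.ofBijective (LinearMap.toSpanSingleton _ _ one) ⟨?_, ?_⟩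
  · rw [injective_iff_map_eq_zero]
    intro a ha
    obtain ⟨U, hx, r, rfl⟩ := X.presheaf.exists_germ_eq a
    rw [LinearMap.toSpanSingleton_apply, ← hone U hx, unitStalk_germ_smul_one] at ha
    rw [← map_zero ((Coh.structureModule X).presheaf.germ U x hx).hom] at ha
    obtain ⟨W, hxW, i, j, hij⟩ :=
      TopCat.Presheaf.germ_eq (Coh.structureModule X).presheaf x hx hx r 0 ha
    rw [← TopCat.Presheaf.germ_res_apply X.presheaf i x hxW r]
    have h0 : X.presheaf.map i.op r = 0 := hij.trans (map_zero _)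
    rw [h0, map_zero]
  · intro m
    obtain ⟨U, hx, r, rfl⟩ := (Coh.structureModule X).presheaf.exists_germ_eq m
    exact ⟨X.presheaf.germ U x hx r, by
      rw [LinearMap.toSpanSingleton_apply, ← hone U hx]; exact unitStalk_germ_smul_one x hx r⟩

theorem isAssPoint_structure_iff (x : X) :
    Curv2.IsAssPoint (Coh.structureModule X) x ↔ MaxAssoc (X.presheaf.stalk x) :=
  (unitStalkEquiv x).isAssociatedPrime_iff.symm

theorem isWeakAssPoint_structure_iff (x : X) :
    Curv2.IsWeakAssPoint (Coh.structureModule X) x ↔ MaxAssoc (X.presheaf.stalk x) :=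
  (isWeakAssPoint_iff_isAssPoint _ x).trans (isAssPoint_structure_iff x)

theorem isUnit_of_nzd_of_maxAssoc {R : Type*} [CommRing R] [IsLocalRing R] (h : MaxAssoc R)
    {a : R} (ha : a ∈ nonZeroDivisors R) : IsUnit a := by
  by_contra hu
  obtain ⟨-, t, ht⟩ := h
  have hmem : a ∈ IsLocalRing.maximalIdeal R := hu
  rw [ht, Ideal.mem_radical_iff] at hmem
  obtain ⟨n, hn⟩ := hmem
  rw [Submodule.mem_colon_singleton, Submodule.mem_bot, smul_eq_mul] at hn
  have ht0 : t = 0 := (mul_left_mem_nonZeroDivisors_eq_zero_iff (pow_mem ha n)).mp hn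
  have h1 : (1 : R) ∈ IsLocalRing.maximalIdeal R := by
    rw [ht, Ideal.mem_radical_iff]
    exact ⟨1, by simp [Submodule.mem_colon_singleton, ht0]⟩
  exact (IsLocalRing.maximalIdeal.isMaximal R).ne_top ((Ideal.eq_top_iff_one _).mpr h1)

/-- Generalisations inside an affine open correspond to smaller primes. -/
theorem exists_point_of_prime {U : X.Opens} (hU : IsAffineOpen U) (q : Ideal Γ(X, U))
    [q.IsPrime] : ∃ y, ∃ hy : y ∈ U, (hU.primeIdealOf ⟨y, hy⟩).asIdeal = q := by
  have hy : hU.fromSpec ⟨q, inferInstance⟩ ∈ U := hU.range_fromSpec.le ⟨_, rfl⟩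
  refine ⟨_, hy, ?_⟩
  have := hU.fromSpec_primeIdealOf ⟨_, hy⟩
  exact congrArg PrimeSpectrum.asIdeal (hU.fromSpec.isOpenEmbedding.injective this)

theorem specializes_iff_primeIdealOf {U : X.Opens} (hU : IsAffineOpen U) {x y : X} (hx : x ∈ U)
    (hy : y ∈ U) :
    y ⤳ x ↔ (hU.primeIdealOf ⟨y, hy⟩).asIdeal ≤ (hU.primeIdealOf ⟨x, hx⟩).asIdeal := by
  have h := (PrimeSpectrum.le_iff_specializes (hU.primeIdealOf ⟨y, hy⟩) (hU.primeIdealOf ⟨x, hx⟩))
  rw [← PrimeSpectrum.asIdeal_le_asIdeal] at h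
  have h2 := hU.fromSpec.isOpenEmbedding.isInducing.specializes_iff
    (x := hU.primeIdealOf ⟨y, hy⟩) (y := hU.primeIdealOf ⟨x, hx⟩)
  rw [hU.fromSpec_primeIdealOf, hU.fromSpec_primeIdealOf] at h2
  exact h2.trans h.symm

theorem maximalPoint_iff_minimalPrime {U : X.Opens} (hU : IsAffineOpen U) {x : X} (hx : x ∈ U) :
    (∀ y : X, y ⤳ x → y = x) ↔ (hU.primeIdealOf ⟨x, hx⟩).asIdeal ∈ minimalPrimes Γ(X, U) := by
  rw [minimalPrimes_eq_minimals]
  constructor
  · intro h
    refine ⟨(hU.primeIdealOf ⟨x, hx⟩).2, fun q hq hle => ?_⟩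
    haveI : q.IsPrime := hq
    obtain ⟨y, hy, rfl⟩ := exists_point_of_prime hU q
    obtain rfl := h y ((specializes_iff_primeIdealOf hU hx hy).mpr hle)
    exact le_rfl
  · intro h y hyx
    have hy : y ∈ U := hyx.mem_open U.isOpen hx
    have he := le_antisymm ((specializes_iff_primeIdealOf hU hx hy).mp hyx)
      (h.2 (hU.primeIdealOf ⟨y, hy⟩).2 ((specializes_iff_primeIdealOf hU hx hy).mp hyx))
    have he' := congrArg hU.fromSpec (PrimeSpectrum.ext he)
    rwa [hU.fromSpec_primeIdealOf, hU.fromSpec_primeIdealOf] at he'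

/-- If `a t = 0` on an affine open and the germ of `t` at `x` is nonzero, some generalisation of
`x` is an associated point of `O_X` at which `a` is not invertible. -/
theorem exists_maxAssoc_of_mul_eq_zero {U : X.Opens} (hU : IsAffineOpen U) {a t : Γ(X, U)}
    (hat : a * t = 0) {x : X} (hx : x ∈ U) (ht : X.presheaf.germ U x hx t ≠ 0) :
    ∃ y, ∃ hy : y ∈ U, y ⤳ x ∧ MaxAssoc (X.presheaf.stalk y) ∧
      ¬ IsUnit (X.presheaf.germ U y hy a) ∧ X.presheaf.germ U y hy t ≠ 0 := by
  set J : Ideal Γ(X, U) := (⊥ : Submodule Γ(X, U) Γ(X, U)).colon {t} with hJ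
  have hmemJ : ∀ r, r ∈ J ↔ r * t = 0 := fun r => by
    rw [hJ, Submodule.mem_colon_singleton, Submodule.mem_bot, smul_eq_mul]
  let algx := X.presheaf.algebra_section_stalk ⟨x, hx⟩
  haveI := hU.isLocalization_stalk ⟨x, hx⟩
  have hJle : J ≤ (hU.primeIdealOf ⟨x, hx⟩).asIdeal := by
    intro r hr
    by_contra hrp
    exact ht ((IsLocalization.map_eq_zero_iff (hU.primeIdealOf ⟨x, hx⟩).asIdeal.primeCompl
      (X.presheaf.stalk x) t).mpr ⟨⟨r, hrp⟩, (hmemJ r).mp hr⟩)
  obtain ⟨q, hq, hqle⟩ := Ideal.exists_minimalPrimes_le hJle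
  haveI : q.IsPrime := hq.1.1
  obtain ⟨y, hy, rfl⟩ := exists_point_of_prime hU q
  let algy := X.presheaf.algebra_section_stalk ⟨y, hy⟩
  haveI := hU.isLocalization_stalk ⟨y, hy⟩
  set q := (hU.primeIdealOf ⟨y, hy⟩).asIdeal with hqdef
  refine ⟨y, hy, (specializes_iff_primeIdealOf hU hx hy).mpr hqle,
    ⟨inferInstance, algebraMap Γ(X, U) (X.presheaf.stalk y) t, ?_⟩, ?_, ?_⟩
  · have hann : (⊥ : Submodule (X.presheaf.stalk y) (X.presheaf.stalk y)).colon
        {algebraMap Γ(X, U) (X.presheaf.stalk y) t} =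
        J.map (algebraMap Γ(X, U) (X.presheaf.stalk y)) := by
      ext z
      obtain ⟨r, s, rfl⟩ := IsLocalization.exists_mk'_eq q.primeCompl z
      rw [Submodule.mem_colon_singleton, Submodule.mem_bot, smul_eq_mul,
        IsLocalization.mk'_mem_map_algebraMap_iff]
      constructor
      · intro h
        rw [← IsLocalization.mk'_one (M := q.primeCompl) (X.presheaf.stalk y) t,
          ← IsLocalization.mk'_mul, mul_one, IsLocalization.mk'_eq_zero_iff] at h
        obtain ⟨m, hm⟩ := h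
        exact ⟨m, m.2, (hmemJ _).mpr (by rw [mul_assoc]; exact hm)⟩
      · rintro ⟨m, hm, hmr⟩
        rw [← IsLocalization.mk'_one (M := q.primeCompl) (X.presheaf.stalk y) t,
          ← IsLocalization.mk'_mul, mul_one, IsLocalization.mk'_eq_zero_iff]
        exact ⟨⟨m, hm⟩, by rw [← mul_assoc]; exact (hmemJ _).mp hmr⟩
    rw [hann]
    refine le_antisymm ?_ ?_
    · rw [Ideal.radical_eq_sInf]
      refine le_sInf fun Q hQ => ?_
      obtain ⟨hQle, hQ⟩ := hQ
      haveI : Q.IsPrime := hQ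
      have hc : (IsLocalRing.maximalIdeal (X.presheaf.stalk y)).under Γ(X, U) = q :=
        IsLocalization.AtPrime.under_maximalIdeal _ q
      have hQc : Q.under Γ(X, U) ≤ q :=
        hc ▸ Ideal.comap_mono (IsLocalRing.le_maximalIdeal hQ.ne_top)
      have hqQ : q ≤ Q.under Γ(X, U) :=
        hq.2 ⟨inferInstance, Ideal.map_le_iff_le_comap.mp hQle⟩ hQc
      rw [← IsLocalization.AtPrime.map_eq_maximalIdeal q (X.presheaf.stalk y)]
      exact Ideal.map_le_iff_le_comap.mpr hqQ
    · rw [(IsLocalRing.maximalIdeal.isMaximal (X.presheaf.stalk y)).isPrime.radical_le_iff,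
        ← IsLocalization.AtPrime.map_eq_maximalIdeal q (X.presheaf.stalk y)]
      exact Ideal.map_mono hq.1.2
  · change ¬ IsUnit (algebraMap Γ(X, U) (X.presheaf.stalk y) a)
    rw [IsLocalization.AtPrime.isUnit_to_map_iff (X.presheaf.stalk y) q a]
    exact not_not_intro (hq.1.2 ((hmemJ a).mpr hat))
  · intro h0
    obtain ⟨⟨m, hm⟩, hmt⟩ := (IsLocalization.map_eq_zero_iff q.primeCompl
      (X.presheaf.stalk y) t).mp h0
    exact hm (hq.1.2 ((hmemJ m).mpr hmt))

/-- A germ which is a zero divisor fails to be invertible at an associated generalisation. -/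
theorem exists_maxAssoc_of_germ_not_nzd {W : X.Opens} (s : Γ(X, W)) {x : X} (hx : x ∈ W)
    (h : X.presheaf.germ W x hx s ∉ nonZeroDivisors (X.presheaf.stalk x)) :
    ∃ y, ∃ hy : y ∈ W, y ⤳ x ∧ MaxAssoc (X.presheaf.stalk y) ∧
      ¬ IsUnit (X.presheaf.germ W y hy s) := by
  by_contra hcon
  refine h (mem_nonZeroDivisors_of_eq_zero fun b hb => ?_)
  by_contra hb0
  obtain ⟨V, hxV, c, rfl⟩ := X.presheaf.exists_germ_eq b
  obtain ⟨U, hU, hxU, hle⟩ := exists_isAffineOpen_mem_and_subset
    (show x ∈ W ⊓ V from ⟨hx, hxV⟩)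
  have hUW : U ≤ W := fun z hz => (hle hz).1
  have hUV : U ≤ V := fun z hz => (hle hz).2
  rw [← TopCat.Presheaf.germ_res_apply X.presheaf (homOfLE hUW) x hxU,
    ← TopCat.Presheaf.germ_res_apply X.presheaf (homOfLE hUV) x hxU, ← map_mul] at hb
  rw [← TopCat.Presheaf.germ_res_apply X.presheaf (homOfLE hUV) x hxU] at hb0
  rw [← map_zero (X.presheaf.germ U x hxU).hom] at hb
  obtain ⟨T, hxT, i, j, hij⟩ := TopCat.Presheaf.germ_eq X.presheaf x hxU hxU _ _ hb
  rw [map_zero, map_mul] at hij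
  obtain ⟨T', hT', hxT', hleT⟩ := exists_isAffineOpen_mem_and_subset hxT
  have hT'T : T' ≤ T := fun z hz => hleT hz
  have h0 := congrArg (X.presheaf.map (homOfLE hT'T).op) hij
  rw [map_mul, map_zero] at h0
  rw [← TopCat.Presheaf.germ_res_apply X.presheaf i x hxT,
    ← TopCat.Presheaf.germ_res_apply X.presheaf (homOfLE hT'T) x hxT'] at hb0
  obtain ⟨y, hy, hyx, hass, hu, -⟩ := exists_maxAssoc_of_mul_eq_zero hT' h0 hxT' hb0
  refine hcon ⟨y, hyx.mem_open W.isOpen hx, hyx, hass, fun hu' => hu ?_⟩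
  simpa only [TopCat.Presheaf.germ_res_apply] using hu'

/-- Regularity of a section is invertibility at the associated points. -/
theorem germ_nzd_iff_isUnit_maxAssoc {W : X.Opens} (s : Γ(X, W)) :
    (∀ x (hx : x ∈ W), X.presheaf.germ W x hx s ∈ nonZeroDivisors (X.presheaf.stalk x)) ↔
      ∀ x (hx : x ∈ W), MaxAssoc (X.presheaf.stalk x) → IsUnit (X.presheaf.germ W x hx s) := by
  refine ⟨fun h x hx ha => isUnit_of_nzd_of_maxAssoc ha (h x hx), fun h x hx => ?_⟩
  by_contra hn
  obtain ⟨y, hy, -, ha, hu⟩ := exists_maxAssoc_of_germ_not_nzd s hx hn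
  exact hu (h y hy ha)

theorem isUnit_of_nzd_of_maximalPoint {W : X.Opens} (s : Γ(X, W)) {x : X} (hx : x ∈ W)
    (hs : X.presheaf.germ W x hx s ∈ nonZeroDivisors (X.presheaf.stalk x))
    (hmax : ∀ y : X, y ⤳ x → y = x) : IsUnit (X.presheaf.germ W x hx s) := by
  by_contra hu
  obtain ⟨U, hU, hxU, hle⟩ := exists_isAffineOpen_mem_and_subset hx
  have hUW : U ≤ W := fun z hz => hle hz
  let algx := X.presheaf.algebra_section_stalk ⟨x, hxU⟩
  haveI := hU.isLocalization_stalk ⟨x, hxU⟩
  have hmin : IsLocalRing.maximalIdeal (X.presheaf.stalk x) ∈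
      minimalPrimes (X.presheaf.stalk x) := by
    rw [minimalPrimes_eq_minimals]
    refine ⟨inferInstance, fun Q hQ _ => ?_⟩
    haveI : Q.IsPrime := hQ
    rw [← IsLocalization.AtPrime.map_eq_maximalIdeal (hU.primeIdealOf ⟨x, hxU⟩).asIdeal]
    refine Ideal.map_le_iff_le_comap.mpr ?_
    have hm := (maximalPoint_iff_minimalPrime hU hxU).mp hmax
    rw [minimalPrimes_eq_minimals] at hm
    refine hm.2 (inferInstanceAs (Q.comap _).IsPrime) ?_
    exact (Ideal.comap_mono (IsLocalRing.le_maximalIdeal hQ.ne_top)).trans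
      (IsLocalization.AtPrime.under_maximalIdeal (X.presheaf.stalk x) _).le
  exact (Set.disjoint_left.mp (Ideal.disjoint_nonZeroDivisors_of_mem_minimalPrimes hmin)) hu hs

/-- A section vanishing at all associated points vanishes. -/
theorem eq_zero_of_germ_eq_zero_maxAssoc {W : X.Opens} (t : Γ(X, W))
    (h : ∀ x (hx : x ∈ W), MaxAssoc (X.presheaf.stalk x) → X.presheaf.germ W x hx t = 0) :
    t = 0 := by
  refine TopCat.Presheaf.section_ext X.sheaf W t 0 fun x hx => ?_
  change X.presheaf.germ W x hx t = X.presheaf.germ W x hx 0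
  rw [map_zero]
  by_contra hne
  obtain ⟨U, hU, hxU, hle⟩ := exists_isAffineOpen_mem_and_subset hx
  have hUW : U ≤ W := fun z hz => hle hz
  rw [← TopCat.Presheaf.germ_res_apply X.presheaf (homOfLE hUW) x hxU] at hne
  obtain ⟨y, hy, -, ha, -, hne'⟩ :=
    exists_maxAssoc_of_mul_eq_zero hU (a := 0) (zero_mul _) hxU hne
  rw [TopCat.Presheaf.germ_res_apply] at hne'
  exact hne' (h y (hUW hy) ha)

theorem maxAssoc_iff_maximalPoint [IsReduced X] (x : X) :
    MaxAssoc (X.presheaf.stalk x) ↔ ∀ y : X, y ⤳ x → y = x := by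
  constructor
  · intro ha
    obtain ⟨U, hU, hxU, -⟩ := exists_isAffineOpen_mem_and_subset
      (show x ∈ (⊤ : X.Opens) from trivial)
    let algx := X.presheaf.algebra_section_stalk ⟨x, hxU⟩
    haveI := hU.isLocalization_stalk ⟨x, hxU⟩
    rw [maximalPoint_iff_minimalPrime hU hxU]
    obtain ⟨-, t, ht⟩ := ha
    have ht0 : IsLocalRing.maximalIdeal (X.presheaf.stalk x) = ⊥ := by
      refine le_antisymm (fun z hz => ?_) bot_le
      rw [ht, Ideal.mem_radical_iff] at hz
      obtain ⟨n, hn⟩ := hz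
      rw [Submodule.mem_colon_singleton, Submodule.mem_bot, smul_eq_mul] at hn
      by_cases htu : IsUnit t
      · exact (IsNilpotent.eq_zero (R := X.presheaf.stalk x) ⟨n, htu.mul_left_eq_zero.mp hn⟩)
      · exfalso
        have htm : t ∈ IsLocalRing.maximalIdeal (X.presheaf.stalk x) := htu
        rw [ht, Ideal.mem_radical_iff] at htm
        obtain ⟨k, hk⟩ := htm
        rw [Submodule.mem_colon_singleton, Submodule.mem_bot, smul_eq_mul, ← pow_succ] at hk
        have h1 : (1 : X.presheaf.stalk x) ∈ IsLocalRing.maximalIdeal (X.presheaf.stalk x) := by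
          rw [ht, Ideal.mem_radical_iff]
          exact ⟨1, by simp [Submodule.mem_colon_singleton, IsNilpotent.eq_zero ⟨k + 1, hk⟩]⟩
        exact (IsLocalRing.maximalIdeal.isMaximal _).ne_top ((Ideal.eq_top_iff_one _).mpr h1)
    rw [minimalPrimes_eq_minimals]
    refine ⟨(hU.primeIdealOf ⟨x, hxU⟩).2, fun q hq hle => ?_⟩
    haveI : q.IsPrime := hq
    intro z hz
    have hz0 : algebraMap Γ(X, U) (X.presheaf.stalk x) z = 0 := by
      rw [← Ideal.mem_bot, ← ht0, ← IsLocalization.AtPrime.map_eq_maximalIdeal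
        (hU.primeIdealOf ⟨x, hxU⟩).asIdeal (X.presheaf.stalk x)]
      exact Ideal.mem_map_of_mem _ hz
    obtain ⟨⟨m, hm⟩, hmz⟩ := (IsLocalization.map_eq_zero_iff
      (hU.primeIdealOf ⟨x, hxU⟩).asIdeal.primeCompl (X.presheaf.stalk x) z).mp hz0
    exact (hq.mem_or_mem (show m * z ∈ q from hmz ▸ q.zero_mem)).resolve_left
      fun h => hm (hle h)
  · intro hmax
    refine ⟨inferInstance, 1, ?_⟩
    have hc : (⊥ : Submodule (X.presheaf.stalk x) (X.presheaf.stalk x)).colon {1} = ⊥ := by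
      ext z; simp [Submodule.mem_colon_singleton]
    rw [hc]
    refine le_antisymm (fun z hz => ?_) ?_
    · obtain ⟨W, hxW, s, rfl⟩ := X.presheaf.exists_germ_eq z
      obtain ⟨U, hU, hxU, hle⟩ := exists_isAffineOpen_mem_and_subset hxW
      have hUW : U ≤ W := fun z hz => hle hz
      let algx := X.presheaf.algebra_section_stalk ⟨x, hxU⟩
      haveI := hU.isLocalization_stalk ⟨x, hxU⟩
      have hm := (maximalPoint_iff_minimalPrime hU hxU).mp hmax
      rw [minimalPrimes_eq_minimals] at hm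
      rw [Ideal.radical_eq_sInf]
      refine Submodule.mem_sInf.mpr fun (Q : Ideal (X.presheaf.stalk x)) hQ => ?_
      haveI : Q.IsPrime := hQ.2
      refine (?_ : IsLocalRing.maximalIdeal (X.presheaf.stalk x) ≤ Q) hz
      rw [← IsLocalization.AtPrime.map_eq_maximalIdeal (hU.primeIdealOf ⟨x, hxU⟩).asIdeal]
      refine Ideal.map_le_iff_le_comap.mpr (hm.2 (inferInstanceAs (Q.comap _).IsPrime) ?_)
      exact (Ideal.comap_mono (IsLocalRing.le_maximalIdeal hQ.2.ne_top)).trans
        (IsLocalization.AtPrime.under_maximalIdeal (X.presheaf.stalk x) _).le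
    · exact (IsLocalRing.maximalIdeal.isMaximal (X.presheaf.stalk x)).isPrime.radical_le_iff.mpr
        bot_le

end Groth.Agent.Lib.AssPt.Basic
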