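import Groth.Agent.Lib.AssPt.Basic
import Groth.Agent.Lib.StalkLoc.Basic
import Groth.Agent.Lib.Modules.Stalk
import Groth.Agent.Lib.Modules.Support
import Mathlib.RingTheory.Ideal.MinimalPrime.Localization
import Mathlib.RingTheory.Ideal.MinimalPrime.Colon

/-!
# (Weakly) associated points of quasi-coherent modules
-/

universe u

open CategoryTheory CategoryTheory.Limits AlgebraicGeometry TopologicalSpace Opposite

namespace Groth.Agent.Lib.AssPt.Modules

open Groth.Agent.Lib.AssPt.Basic Groth.Agent.Lib.StalkLoc.Basic Groth.Agent.Lib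

variable {X : Scheme.{u}} {M N : X.Modules}

theorem radical_map_eq_maximalIdeal_iff {R S : Type*} [CommRing R] [CommRing S] [Algebra R S]
    [IsLocalRing S] (p : Ideal R) [p.IsPrime] [IsLocalization.AtPrime S p] (J : Ideal R) :
    (J.map (algebraMap R S)).radical = IsLocalRing.maximalIdeal S ↔ p ∈ J.minimalPrimes := by
  have hc : (IsLocalRing.maximalIdeal S).comap (algebraMap R S) = p :=
    IsLocalization.AtPrime.under_maximalIdeal S p
  constructor
  · intro h
    refine ⟨⟨inferInstance, ?_⟩, fun q hq hqp => ?_⟩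
    · rw [← hc, ← h]
      exact Ideal.map_le_iff_le_comap.mp Ideal.le_radical
    · haveI : q.IsPrime := hq.1
      have hd : Disjoint (p.primeCompl : Set R) (q : Set R) :=
        Set.disjoint_left.mpr fun r hr hrq => hr (hqp hrq)
      have hQ : (q.map (algebraMap R S)).IsPrime :=
        IsLocalization.isPrime_of_isPrime_disjoint p.primeCompl S q hq.1 hd
      have hle : IsLocalRing.maximalIdeal S ≤ q.map (algebraMap R S) :=
        h ▸ hQ.radical_le_iff.mpr (Ideal.map_mono hq.2)
      have hq' : (q.map (algebraMap R S)).comap (algebraMap R S) = q :=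
        IsLocalization.under_map_of_isPrime_disjoint p.primeCompl S hq.1 hd
      rw [← hc, ← hq']
      exact Ideal.comap_mono hle
  · intro h
    refine le_antisymm ?_ ?_
    · rw [(IsLocalRing.maximalIdeal.isMaximal S).isPrime.radical_le_iff,
        ← IsLocalization.AtPrime.map_eq_maximalIdeal p S]
      exact Ideal.map_mono h.1.2
    · rw [Ideal.radical_eq_sInf]
      refine le_sInf fun Q hQ => ?_
      haveI : Q.IsPrime := hQ.2
      rw [← IsLocalization.AtPrime.map_eq_maximalIdeal p S]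
      refine Ideal.map_le_iff_le_comap.mpr (h.2 ⟨inferInstanceAs (Q.comap _).IsPrime,
        Ideal.map_le_iff_le_comap.mp hQ.1⟩ ?_)
      exact (Ideal.comap_mono (IsLocalRing.le_maximalIdeal hQ.2.ne_top)).trans hc.le

/-- The annihilator of a germ is the extension of the annihilator of the section. -/
theorem colon_germ [M.IsQuasicoherent] {U : X.Opens} (hU : IsAffineOpen U) {x : X} (hx : x ∈ U)
    (t : Γ(M, U)) :
    (⊥ : Submodule (X.presheaf.stalk x) (M.presheaf.stalk x)).colon {M.presheaf.germ U x hx t} =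
      ((⊥ : Submodule Γ(X, U) Γ(M, U)).colon {t}).map (X.presheaf.germ U x hx).hom := by
  let algx := X.presheaf.algebra_section_stalk ⟨x, hx⟩
  haveI := hU.isLocalization_stalk ⟨x, hx⟩
  set p := (hU.primeIdealOf ⟨x, hx⟩).asIdeal with hp
  ext z
  obtain ⟨r, s, rfl⟩ := IsLocalization.exists_mk'_eq p.primeCompl z
  have hs : IsUnit (algebraMap Γ(X, U) (X.presheaf.stalk x) s.1) :=
    IsLocalization.map_units _ s
  change _ ↔ IsLocalization.mk' (X.presheaf.stalk x) r s ∈
    ((⊥ : Submodule Γ(X, U) Γ(M, U)).colon {t}).map (algebraMap Γ(X, U) (X.presheaf.stalk x))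
  rw [Submodule.mem_colon_singleton, Submodule.mem_bot, IsLocalization.mk'_mem_map_algebraMap_iff,
    ← hs.smul_eq_zero, smul_smul, mul_comm, IsLocalization.mk'_spec]
  change X.presheaf.germ U x hx r • M.presheaf.germ U x hx t = 0 ↔ _
  rw [← Modules.StalkModule.germ_smul, germ_eq_zero_iff hU hx]
  simp only [Submodule.mem_colon_singleton, Submodule.mem_bot, mul_smul]
  exact exists_congr fun f => by
    rw [Ideal.mem_primeCompl_iff, hp, ← Groth.Agent.Lib.Ideal.EffCartier.mem_basicOpen_iff_notMem_prime hU hx]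

theorem colon_smul_unit {R V : Type*} [CommRing R] [AddCommGroup V] [Module R V] {a : R}
    (ha : IsUnit a) (v : V) :
    (⊥ : Submodule R V).colon {a • v} = (⊥ : Submodule R V).colon {v} := by
  ext r
  simp only [Submodule.mem_colon_singleton, Submodule.mem_bot]
  rw [smul_comm, ha.smul_eq_zero]

/-- `x` is associated iff its prime is minimal over the annihilator of some section. -/
theorem isAssPoint_iff [M.IsQuasicoherent] {U : X.Opens} (hU : IsAffineOpen U) {x : X}
    (hx : x ∈ U) :
    Curv2.IsAssPoint M x ↔ ∃ t : Γ(M, U), (hU.primeIdealOf ⟨x, hx⟩).asIdeal ∈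
      ((⊥ : Submodule Γ(X, U) Γ(M, U)).colon {t}).minimalPrimes := by
  let algx := X.presheaf.algebra_section_stalk ⟨x, hx⟩
  haveI := hU.isLocalization_stalk ⟨x, hx⟩
  constructor
  · rintro ⟨-, v, hv⟩
    obtain ⟨f, t, hxf, he⟩ := exists_smul_eq_germ hU hx v
    refine ⟨t, (radical_map_eq_maximalIdeal_iff (S := X.presheaf.stalk x) _ _).mp ?_⟩
    rw [← colon_smul_unit ((X.mem_basicOpen f x hx).mp hxf), he, colon_germ hU hx] at hv
    exact hv.symm
  · rintro ⟨t, ht⟩
    refine ⟨inferInstance, M.presheaf.germ U x hx t, ?_⟩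
    rw [colon_germ hU hx]
    exact ((radical_map_eq_maximalIdeal_iff (S := X.presheaf.stalk x) _ _).mpr ht).symm

theorem exists_assPoint_of_germ_ne_zero [M.IsQuasicoherent] {U : X.Opens} (hU : IsAffineOpen U)
    (t : Γ(M, U)) {x : X} (hx : x ∈ U) (h : M.presheaf.germ U x hx t ≠ 0) :
    ∃ y, ∃ hy : y ∈ U, y ⤳ x ∧ Curv2.IsAssPoint M y ∧ M.presheaf.germ U y hy t ≠ 0 := by
  set J := (⊥ : Submodule Γ(X, U) Γ(M, U)).colon {t} with hJ
  have hle : J ≤ (hU.primeIdealOf ⟨x, hx⟩).asIdeal := by
    intro r hr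
    by_contra hrp
    rw [hJ, Submodule.mem_colon_singleton, Submodule.mem_bot] at hr
    exact h ((germ_eq_zero_iff hU hx t).mpr
      ⟨r, (Groth.Agent.Lib.Ideal.EffCartier.mem_basicOpen_iff_notMem_prime hU hx r).mpr hrp, hr⟩)
  obtain ⟨q, hq, hqle⟩ := Ideal.exists_minimalPrimes_le hle
  haveI : q.IsPrime := hq.1.1
  obtain ⟨y, hy, rfl⟩ := exists_point_of_prime hU q
  refine ⟨y, hy, (specializes_iff_primeIdealOf hU hx hy).mpr hqle,
    (isAssPoint_iff hU hy).mpr ⟨t, hq⟩, fun h0 => ?_⟩
  obtain ⟨f, hyf, hft⟩ := (germ_eq_zero_iff hU hy t).mp h0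
  exact (Groth.Agent.Lib.Ideal.EffCartier.mem_basicOpen_iff_notMem_prime hU hy f).mp hyf
    (hq.1.2 (by rw [hJ, Submodule.mem_colon_singleton, Submodule.mem_bot]; exact hft))

/-- A section vanishing at every associated point vanishes. -/
theorem eq_zero_of_germ_eq_zero_assPoints [M.IsQuasicoherent] {W : X.Opens} (t : Γ(M, W))
    (h : ∀ x (hx : x ∈ W), Curv2.IsAssPoint M x → M.presheaf.germ W x hx t = 0) : t = 0 := by
  refine Modules.Support.eq_zero_of_germ_eq_zero t fun x hx _ => ?_
  by_contra hne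
  obtain ⟨U, hU, hxU, hle⟩ := exists_isAffineOpen_mem_and_subset hx
  have hUW : U ≤ W := fun z hz => hle hz
  rw [← TopCat.Presheaf.germ_res_apply M.presheaf (homOfLE hUW) x hxU] at hne
  obtain ⟨y, hy, -, hass, hne'⟩ := exists_assPoint_of_germ_ne_zero hU _ hxU hne
  rw [TopCat.Presheaf.germ_res_apply] at hne'
  exact hne' (h y (hUW hy) hass)

theorem nontrivial_stalk_of_assPoint {x : X} (h : Curv2.IsAssPoint M x) :
    ¬ Subsingleton (M.presheaf.stalk x) :=
  fun _ => not_isAssociatedPrime_of_subsingleton h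

theorem exists_assPoint_of_stalk_nontrivial [M.IsQuasicoherent] {x : X}
    (h : ¬ Subsingleton (M.presheaf.stalk x)) : ∃ y, y ⤳ x ∧ Curv2.IsAssPoint M y := by
  have : ∃ v : M.presheaf.stalk x, v ≠ 0 := by
    by_contra hall
    push Not at hall
    exact h ⟨fun a b => (hall a).trans (hall b).symm⟩
  obtain ⟨v, hv⟩ := this
  obtain ⟨U, hU, hxU, -⟩ := exists_isAffineOpen_mem_and_subset
    (show x ∈ (⊤ : X.Opens) from trivial)
  obtain ⟨f, t, hxf, he⟩ := exists_smul_eq_germ hU hxU v
  have hne : M.presheaf.germ U x hxU t ≠ 0 := by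
    rw [← he]
    exact fun h0 => hv (((X.mem_basicOpen f x hxU).mp hxf).smul_eq_zero.mp h0)
  obtain ⟨y, -, hyx, hass, -⟩ := exists_assPoint_of_germ_ne_zero hU t hxU hne
  exact ⟨y, hyx, hass⟩

theorem isZero_iff_no_assPoint [M.IsQuasicoherent] :
    IsZero M ↔ ∀ x : X, ¬ Curv2.IsAssPoint M x := by
  rw [Modules.Stalk.isZero_iff_stalk_subsingleton]
  refine ⟨fun h x hx => nontrivial_stalk_of_assPoint hx (h x), fun h x => ?_⟩
  by_contra hx
  obtain ⟨y, -, hy⟩ := exists_assPoint_of_stalk_nontrivial hx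
  exact h y hy

theorem restrict_injective [M.IsQuasicoherent] {U V : X.Opens} (hVU : V ≤ U)
    (h : ∀ x : X, Curv2.IsAssPoint M x → x ∈ U → x ∈ V) :
    Function.Injective (M.presheaf.map (homOfLE hVU).op) := by
  rw [injective_iff_map_eq_zero]
  intro t ht
  refine eq_zero_of_germ_eq_zero_assPoints t fun x hx hass => ?_
  rw [← TopCat.Presheaf.germ_res_apply M.presheaf (homOfLE hVU) x (h x hass hx), ht, map_zero]

theorem mono_of_stalk_injective [M.IsQuasicoherent] (φ : M ⟶ N)
    (h : ∀ x : X, Curv2.IsAssPoint M x →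
      Function.Injective ((Modules.Stalk.stalkFunctor X x).map φ)) : Mono φ := by
  rw [Modules.Stalk.mono_iff_app_injective]
  intro U
  rw [injective_iff_map_eq_zero]
  intro t ht
  refine eq_zero_of_germ_eq_zero_assPoints t fun x hx hass => h x hass ?_
  refine (Modules.Stalk.stalkFunctor_map_germ x φ hx t).trans ?_
  rw [ht]
  exact (map_zero _).trans (map_zero ((Modules.Stalk.stalkFunctor X x).map φ).hom).symm

theorem assPoints_of_shortExact {S : ShortComplex X.Modules} (hS : S.ShortExact) (x : X) :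
    (Curv2.IsAssPoint S.X₂ x → Curv2.IsAssPoint S.X₁ x ∨ Curv2.IsAssPoint S.X₃ x) ∧
      (Curv2.IsAssPoint S.X₁ x → Curv2.IsAssPoint S.X₂ x) := by
  have h := (Modules.Stalk.shortExact_iff_stalk S).mp hS x
  haveI := h.mono_f
  have hinj : Function.Injective (Modules.StalkModule.stalkMapₗ S.f x) :=
    (AddCommGrpCat.mono_iff_injective _).mp h.mono_f
  have hex : Function.Exact (Modules.StalkModule.stalkMapₗ S.f x)
      (Modules.StalkModule.stalkMapₗ S.g x) :=
    (ShortComplex.ab_exact_iff_function_exact _).mp h.exact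
  exact ⟨fun ha => associatedPrimes.subset_union_of_exact hinj hex ha,
    fun ha => IsAssociatedPrime.map_of_injective _ ha hinj⟩

end Groth.Agent.Lib.AssPt.Modules
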