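import Groth.Agent.Lib.AssPt.Basic
import Groth.Agent.S2506
import Mathlib.AlgebraicGeometry.Morphisms.FormallyUnramified
import Mathlib.AlgebraicGeometry.Morphisms.SchemeTheoreticallyDominant
import Mathlib.AlgebraicGeometry.Morphisms.Etale
import Mathlib.RingTheory.Unramified.LocalRing
import Mathlib.RingTheory.Ideal.AssociatedPrime.Finiteness
import Mathlib.AlgebraicGeometry.Morphisms.UniversallyOpen
import Groth.Agent.Lib.TensorMod.QCohInv
import Mathlib.RingTheory.Flat.FaithfullyFlat.Algebra

/-!
# Associated points, etale maps and scheme-theoretic dominance of flat maps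
-/

set_option autoImplicit false

universe u

open CategoryTheory AlgebraicGeometry TopologicalSpace Opposite IsLocalRing

namespace Groth.Agent.Lib.AssPt.FlatDom

open Groth.Agent.Lib.AssPt.Basic

/-- Along a flat local map with unramified closed fibre, associatedness of the maximal ideal is
preserved and reflected. -/
theorem maxAssoc_iff_of_flat {A B : Type u} [CommRing A] [CommRing B] [IsLocalRing A] [IsLocalRing B]
    [IsNoetherianRing A] [Algebra A B] [IsLocalHom (algebraMap A B)] [Module.Flat A B]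
    (hm : (maximalIdeal A).map (algebraMap A B) = maximalIdeal B) :
    MaxAssoc B ↔ MaxAssoc A := by
  have : Module.FaithfullyFlat A B := Module.FaithfullyFlat.of_flat_of_isLocalHom
  refine ⟨fun hB => ?_, fun hA => ?_⟩
  · by_contra hA
    have hsub : ¬ ((maximalIdeal A : Set A) ⊆ ⋃ P ∈ associatedPrimes A A, (P : Set A)) := by
      intro hle
      obtain ⟨P, hP, hle⟩ := (Ideal.subset_union_prime_finite (associatedPrimes.finite A A) ⊥ ⊥
        fun P hP _ _ => hP.isPrime).1 hle
      exact hA (show (maximalIdeal A) ∈ associatedPrimes A A from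
        (maximalIdeal.isMaximal A).eq_of_le hP.isPrime.ne_top hle ▸ hP)
    obtain ⟨a, ha, hna⟩ := Set.not_subset.1 hsub
    rw [biUnion_associatedPrimes_eq_compl_nonZeroDivisors, Set.mem_compl_iff, not_not] at hna
    have hb : algebraMap A B a ∈ nonZeroDivisors B := by
      rw [mem_nonZeroDivisors_iff_right]
      intro b hb
      have hreg : IsSMulRegular A a := fun x y hxy => by
        simp only [smul_eq_mul] at hxy
        exact sub_eq_zero.1 ((mul_left_mem_nonZeroDivisors_eq_zero_iff hna).1 (by rw [mul_sub, hxy, sub_self]))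
      have := hreg.of_flat (S := B)
      exact this (by simpa [Algebra.smul_def, mul_comm] using hb)
    exact ha (IsLocalHom.map_nonunit a (isUnit_of_nzd_of_maxAssoc hB hb))
  · obtain ⟨-, t, ht⟩ := hA
    have key : ∀ c : A, c ∈ maximalIdeal A → ∃ n : ℕ, c ^ n * t = 0 := fun c hc => by
      rw [ht, Ideal.mem_radical_iff] at hc
      obtain ⟨n, hn⟩ := hc
      exact ⟨n, by simpa [Submodule.mem_colon_singleton] using hn⟩
    refine ⟨inferInstance, algebraMap A B t, le_antisymm ?_ ?_⟩
    · rw [← hm, Ideal.map_le_iff_le_comap]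
      intro c hc
      obtain ⟨n, hn⟩ := key c hc
      rw [Ideal.mem_comap, Ideal.mem_radical_iff]
      exact ⟨n, by rw [Submodule.mem_colon_singleton, smul_eq_mul, ← map_pow, ← map_mul, hn,
        map_zero]; exact Submodule.zero_mem _⟩
    · refine le_maximalIdeal ?_
      intro htop
      have h1 : (1 : B) ∈ (⊥ : Submodule B B).colon {algebraMap A B t} := by
        rw [Ideal.radical_eq_top.1 htop]; trivial
      have ht0 : algebraMap A B t = 0 := by
        simpa [Submodule.mem_colon_singleton] using h1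
      have ht1 : t = 0 := FaithfulSMul.algebraMap_injective A B (ht0.trans (map_zero _).symm)
      have : (1 : A) ∈ maximalIdeal A := by
        rw [ht, Ideal.mem_radical_iff]
        exact ⟨1, by simp [Submodule.mem_colon_singleton, ht1]⟩
      exact (maximalIdeal.isMaximal A).ne_top ((Ideal.eq_top_iff_one _).mpr this)

theorem maxAssoc_iff_of_etale {E S : Scheme.{u}} [IsLocallyNoetherian S] (g : E ⟶ S) [Etale g]
    (x : E) : MaxAssoc (E.presheaf.stalk x) ↔ MaxAssoc (S.presheaf.stalk (g x)) := by
  algebraize [(g.stalkMap x).hom]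
  have : IsLocalHom (algebraMap (S.presheaf.stalk (g x)) (E.presheaf.stalk x)) :=
    inferInstanceAs <| IsLocalHom (g.stalkMap x).hom
  have : Algebra.EssFiniteType (S.presheaf.stalk (g x)) (E.presheaf.stalk x) := by
    rw [← RingHom.essFiniteType_algebraMap, RingHom.algebraMap_toAlgebra]
    exact LocallyOfFiniteType.stalkMap g x
  have : Algebra.FormallyUnramified (S.presheaf.stalk (g x)) (E.presheaf.stalk x) := by
    rw [← RingHom.formallyUnramified_algebraMap, RingHom.algebraMap_toAlgebra]
    exact FormallyUnramified.stalkMap g x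
  have : Module.Flat (S.presheaf.stalk (g x)) (E.presheaf.stalk x) := by
    rw [← RingHom.flat_algebraMap_iff, RingHom.algebraMap_toAlgebra]
    exact Flat.stalkMap g x
  exact maxAssoc_iff_of_flat Algebra.FormallyUnramified.map_maximalIdeal

/-- Every point generalizes to an associated point; in particular maximal points are associated. -/
theorem exists_maxAssoc_generalization {X : Scheme.{u}} (x : X) :
    ∃ y : X, y ⤳ x ∧ MaxAssoc (X.presheaf.stalk y) := by
  obtain ⟨_, ⟨U, hU, rfl⟩, hx, -⟩ :=
    X.isBasis_affineOpens.exists_subset_of_mem_open (Set.mem_univ x) isOpen_univ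
  obtain ⟨y, -, hyx, hy, -⟩ := exists_maxAssoc_of_mul_eq_zero hU (a := (0 : Γ(X, U))) (t := 1)
    (zero_mul 1) hx (by rw [map_one]; exact one_ne_zero)
  exact ⟨y, hyx, hy⟩

/-- A flat morphism is scheme-theoretically dominant exactly when all associated points of the
target lie in the image. -/
theorem isSchemeTheoreticallyDominant_iff_of_flat {X E : Scheme.{u}} [IsLocallyNoetherian E]
    (u : X ⟶ E) [Flat u] :
    IsSchemeTheoreticallyDominant u ↔
      ∀ x : E, MaxAssoc (E.presheaf.stalk x) → x ∈ Set.range u := by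
  refine ⟨fun h x hx => ?_, fun h => ?_⟩
  · by_contra hxu
    let W : E.Opens := ⟨(closure {x})ᶜ, isClosed_closure.isOpen_compl⟩
    have hle : Set.range u ⊆ Set.range W.ι := by
      rw [Scheme.Opens.range_ι]
      rintro _ ⟨w, rfl⟩ hw
      obtain ⟨w', -, hw'⟩ := Flat.generalizingMap (f := u) (specializes_iff_mem_closure.2 hw)
      exact hxu ⟨w', hw'⟩
    have hu : IsOpenImmersion.lift W.ι u hle ≫ W.ι = u := IsOpenImmersion.lift_fac _ _ _
    have : IsSchemeTheoreticallyDominant W.ι := ⟨le_bot_iff.1 (by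
      rw [← h.ker_eq_bot, ← hu]; exact Scheme.Hom.le_ker_comp _ _)⟩
    have hsub := (S2506.result (Coh.structureModule E) (TensorMod.QCohInv.isQCoh_structureModule E) W).2 fun V hV s hs => by
      refine W.ι.app_injective V ((?_ : (W.ι.app V) s = 0).trans (map_zero (W.ι.app V).hom).symm)
      change (E.presheaf.map (homOfLE (W.ι.image_preimage_le V)).op) s = 0
      have hs' : E.presheaf.map (homOfLE (inf_le_left : V ⊓ W ≤ V)).op s = 0 := hs
      have e : W.ι ''ᵁ (W.ι ⁻¹ᵁ V) ≤ V ⊓ W :=
        le_inf (W.ι.image_preimage_le _) ((W.ι.image_le_opensRange _).trans W.opensRange_ι.le)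
      rw [show (homOfLE (W.ι.image_preimage_le V)).op =
        (homOfLE (inf_le_left : V ⊓ W ≤ V)).op ≫ (homOfLE e).op from rfl, Functor.map_comp,
        CommRingCat.comp_apply, hs', map_zero]
    exact hsub ((isAssPoint_structure_iff x).2 hx) (subset_closure rfl)
  · refine ⟨le_bot_iff.1 fun V s hs => ?_⟩
    rw [Scheme.IdealSheafData.ideal_bot, Pi.bot_apply, Ideal.mem_bot]
    have hs' : u.app V s = 0 := u.ideal_ker_le V hs
    refine eq_zero_of_germ_eq_zero_maxAssoc s fun x hx hxA => ?_
    obtain ⟨w, rfl⟩ := h x hxA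
    algebraize [(u.stalkMap w).hom]
    have : IsLocalHom (algebraMap (E.presheaf.stalk (u w)) (X.presheaf.stalk w)) :=
      inferInstanceAs <| IsLocalHom (u.stalkMap w).hom
    have : Module.Flat (E.presheaf.stalk (u w)) (X.presheaf.stalk w) := by
      rw [← RingHom.flat_algebraMap_iff, RingHom.algebraMap_toAlgebra]
      exact Flat.stalkMap u w
    have : Module.FaithfullyFlat (E.presheaf.stalk (u w)) (X.presheaf.stalk w) :=
      Module.FaithfullyFlat.of_flat_of_isLocalHom
    apply FaithfulSMul.algebraMap_injective (E.presheaf.stalk (u w)) (X.presheaf.stalk w)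
    rw [map_zero, RingHom.algebraMap_toAlgebra, Scheme.Hom.germ_stalkMap_apply, hs', map_zero]

/-- A homeomorphism matching embedded associated points matches associated points. -/
theorem maxAssoc_iff_of_homeo {S' S : Scheme.{u}} (e : ↥S' ≃ₜ ↥S)
    (hemb : ∀ s' : S', (MaxAssoc (S'.presheaf.stalk s') ∧
        ∃ t, MaxAssoc (S'.presheaf.stalk t) ∧ t ⤳ s' ∧ t ≠ s') ↔
      (MaxAssoc (S.presheaf.stalk (e s')) ∧
        ∃ t, MaxAssoc (S.presheaf.stalk t) ∧ t ⤳ e s' ∧ t ≠ e s')) (s' : S') :
    MaxAssoc (S'.presheaf.stalk s') ↔ MaxAssoc (S.presheaf.stalk (e s')) := by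
  have ofMaximal : ∀ {X : Scheme.{u}} (x : X), (∀ y, y ⤳ x → y = x) → MaxAssoc (X.presheaf.stalk x) :=
    fun x hx => by
      obtain ⟨y, hy, hA⟩ := exists_maxAssoc_generalization x
      obtain rfl := hx y hy
      exact hA
  have maximalOf : ∀ {X : Scheme.{u}} (x : X),
      (¬ ∃ t, MaxAssoc (X.presheaf.stalk t) ∧ t ⤳ x ∧ t ≠ x) → ∀ y, y ⤳ x → y = x :=
    fun x hx y hy => by
      obtain ⟨t, ht, hA⟩ := exists_maxAssoc_generalization y
      by_cases htx : t = x
      · subst htx; exact (hy.antisymm ht).eq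
      · exact absurd ⟨t, hA, ht.trans hy, htx⟩ hx
  refine ⟨fun h => ?_, fun h => ?_⟩
  · by_cases hE : ∃ t, MaxAssoc (S'.presheaf.stalk t) ∧ t ⤳ s' ∧ t ≠ s'
    · exact ((hemb s').1 ⟨h, hE⟩).1
    · refine ofMaximal _ fun y hy => ?_
      rw [← e.apply_symm_apply y] at hy ⊢
      rw [maximalOf s' hE _ (e.isInducing.specializes_iff.1 hy)]
  · by_cases hE : ∃ t, MaxAssoc (S.presheaf.stalk t) ∧ t ⤳ e s' ∧ t ≠ e s'
    · exact ((hemb s').2 ⟨h, hE⟩).1
    · exact ofMaximal _ fun y hy =>
        e.injective (maximalOf (e s') hE _ (hy.map e.continuous))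

end Groth.Agent.Lib.AssPt.FlatDom
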