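import Groth.Agent.Lib.AssPt.Modules
import Groth.Agent.Lib.QCoh.Pushforward
import Mathlib.AlgebraicGeometry.Morphisms.Affine
import Mathlib.AlgebraicGeometry.Morphisms.QuasiSeparated
import Mathlib.AlgebraicGeometry.Noetherian

/-!
# Associated points of a pushforward along an affine morphism
-/

universe u

open CategoryTheory AlgebraicGeometry TopologicalSpace Opposite

namespace Groth.Agent.Lib.AssPt.Pushforward

open Groth.Agent.Lib.AssPt.Basic Groth.Agent.Lib.AssPt.Modules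

variable {X S : Scheme.{u}} (f : X ⟶ S) {F : X.Modules}

theorem colon_pushforward (V : S.Opens) (t : Γ(F, f ⁻¹ᵁ V)) :
    ((⊥ : Submodule Γ(S, V) Γ((Scheme.Modules.pushforward f).obj F, V)).colon {t}) =
      ((⊥ : Submodule Γ(X, f ⁻¹ᵁ V) Γ(F, f ⁻¹ᵁ V)).colon {t}).comap (f.app V).hom := by
  ext r
  refine Iff.trans ?_ Ideal.mem_comap.symm
  refine Iff.trans ?_ (Submodule.mem_colon_singleton.trans (Submodule.mem_bot _)).symm
  exact Submodule.mem_colon_singleton.trans (Submodule.mem_bot _)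

theorem eq_of_primeIdealOf_eq {U : X.Opens} (hU : IsAffineOpen U) {x y : X} (hx : x ∈ U)
    (hy : y ∈ U) (h : (hU.primeIdealOf ⟨x, hx⟩).asIdeal = (hU.primeIdealOf ⟨y, hy⟩).asIdeal) :
    x = y := by
  have := congrArg hU.fromSpec (PrimeSpectrum.ext h)
  rwa [hU.fromSpec_primeIdealOf, hU.fromSpec_primeIdealOf] at this

theorem comap_app_primeIdealOf [IsAffineHom f] {V : S.Opens} (hV : IsAffineOpen V) {x : X}
    (hx : x ∈ f ⁻¹ᵁ V) :
    ((hV.preimage f).primeIdealOf ⟨x, hx⟩).asIdeal.comap (f.app V).hom =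
      (hV.primeIdealOf ⟨f x, hx⟩).asIdeal := by
  have h := IsAffineOpen.comap_primeIdealOf_appLE (f := f) (x := x) V hV (f ⁻¹ᵁ V)
    (hV.preimage f) le_rfl hx
  rw [Scheme.Hom.app_eq_appLE]
  exact congrArg PrimeSpectrum.asIdeal h

theorem exists_assPoint_of_pushforward [IsAffineHom f] [F.IsQuasicoherent] {s : S}
    (hs : Curv2.IsAssPoint ((Scheme.Modules.pushforward f).obj F) s) :
    ∃ x : X, f x = s ∧ Curv2.IsAssPoint F x := by
  haveI : ((Scheme.Modules.pushforward f).obj F).IsQuasicoherent :=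
    Groth.Agent.Lib.QCoh.Pushforward.isQCoh_pushforward (f := f) (M := F)
  obtain ⟨V, hV, hsV, -⟩ := exists_isAffineOpen_mem_and_subset
    (show s ∈ (⊤ : S.Opens) from trivial)
  obtain ⟨t, ht⟩ := (isAssPoint_iff hV hsV).mp hs
  set J := (⊥ : Submodule Γ(X, f ⁻¹ᵁ V) Γ(F, f ⁻¹ᵁ V)).colon {t}
  have ht' : (hV.primeIdealOf ⟨s, hsV⟩).asIdeal ∈ (J.comap (f.app V).hom).minimalPrimes :=
    colon_pushforward f V t ▸ ht
  obtain ⟨P, hP, hJP, hPc⟩ := Ideal.exists_comap_eq_of_mem_minimalPrimes _ _ ht'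
  obtain ⟨Q, hQ, hQP⟩ := Ideal.exists_minimalPrimes_le hJP
  haveI : Q.IsPrime := hQ.1.1
  have hQc : Q.comap (f.app V).hom = (hV.primeIdealOf ⟨s, hsV⟩).asIdeal :=
    le_antisymm (hPc ▸ Ideal.comap_mono hQP)
      (ht'.2 ⟨inferInstanceAs (Q.comap _).IsPrime, Ideal.comap_mono hQ.1.2⟩
        (hPc ▸ Ideal.comap_mono hQP))
  obtain ⟨x, hx, rfl⟩ := exists_point_of_prime (hV.preimage f) Q
  refine ⟨x, eq_of_primeIdealOf_eq hV hx hsV ?_, (isAssPoint_iff (hV.preimage f) hx).mpr ⟨t, hQ⟩⟩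
  rw [← comap_app_primeIdealOf f hV hx]
  exact hQc

theorem isAssPoint_pushforward [IsAffineHom f] [IsLocallyNoetherian X] [F.IsQuasicoherent] {x : X}
    (hx : Curv2.IsAssPoint F x) :
    Curv2.IsAssPoint ((Scheme.Modules.pushforward f).obj F) (f x) := by
  haveI : ((Scheme.Modules.pushforward f).obj F).IsQuasicoherent :=
    Groth.Agent.Lib.QCoh.Pushforward.isQCoh_pushforward (f := f) (M := F)
  obtain ⟨V, hV, hsV, -⟩ := exists_isAffineOpen_mem_and_subset
    (show f x ∈ (⊤ : S.Opens) from trivial)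
  haveI : IsNoetherianRing Γ(X, f ⁻¹ᵁ V) :=
    IsLocallyNoetherian.component_noetherian ⟨_, hV.preimage f⟩
  obtain ⟨t, ht⟩ := (isAssPoint_iff (hV.preimage f) (show x ∈ f ⁻¹ᵁ V from hsV)).mp hx
  obtain ⟨t', ht'⟩ := Submodule.exists_eq_colon_of_mem_minimalPrimes ht
  refine (isAssPoint_iff hV hsV).mpr ⟨t', ?_⟩
  refine Eq.mpr (congrArg (fun I : Ideal Γ(S, V) => (hV.primeIdealOf ⟨f x, hsV⟩).asIdeal ∈
    I.minimalPrimes) (colon_pushforward f V t')) ?_
  rw [← ht', comap_app_primeIdealOf f hV (x := x) hsV, Ideal.minimalPrimes_eq_subsingleton_self]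
  rfl

end Groth.Agent.Lib.AssPt.Pushforward
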